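import Mathlib
import Groth.Prelude.Def_KZero

/-! Hilbert functions with values in `K₀` are eventually polynomial. -/

set_option autoImplicit false
set_option linter.style.haveILetI false

universe u

open CategoryTheory DirectSum

namespace K0HilbLib

/-! ### Eventually polynomial sequences -/

section evpoly

variable {G : Type*} [AddCommGroup G]

/-- `f n = ∑_{i<r} C(n,i) • a i` for all large `n`. -/
def EvPoly (f : ℕ → G) : Prop :=
  ∃ (r : ℕ) (a : ℕ → G) (N : ℕ), ∀ n, N ≤ n → f n = ∑ i ∈ Finset.range r, (n.choose i : ℤ) • a i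

theorem EvPoly.congr {f g : ℕ → G} (hf : EvPoly f) {M : ℕ} (h : ∀ n, M ≤ n → g n = f n) : EvPoly g := by
  obtain ⟨r, a, N, ha⟩ := hf
  exact ⟨r, a, max N M, fun n hn => by rw [h n (le_of_max_le_right hn), ha n (le_of_max_le_left hn)]⟩

theorem EvPoly.zero : EvPoly (fun _ => (0 : G)) := ⟨0, fun _ => 0, 0, fun n _ => by simp⟩

theorem pad {r R : ℕ} (hr : r ≤ R) (a : ℕ → G) (n : ℕ) :
    ∑ i ∈ Finset.range r, (n.choose i : ℤ) • a i =
      ∑ i ∈ Finset.range R, (n.choose i : ℤ) • (if i < r then a i else 0) := by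
  rw [← Finset.sum_subset (Finset.range_subset_range.2 hr) (fun i _ hi => by
    rw [if_neg (by simpa using hi), smul_zero])]
  exact Finset.sum_congr rfl fun i hi => by rw [if_pos (Finset.mem_range.1 hi)]

theorem EvPoly.sub {f g : ℕ → G} (hf : EvPoly f) (hg : EvPoly g) : EvPoly (fun n => f n - g n) := by
  obtain ⟨r, a, N, ha⟩ := hf
  obtain ⟨r', b, N', hb⟩ := hg
  refine ⟨max r r', fun i => (if i < r then a i else 0) - (if i < r' then b i else 0), max N N',
    fun n hn => ?_⟩
  dsimp only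
  rw [ha n (le_of_max_le_left hn), hb n (le_of_max_le_right hn), pad (le_max_left r r') a,
    pad (le_max_right r r') b, ← Finset.sum_sub_distrib]
  simp only [smul_sub]

theorem EvPoly.shift {f : ℕ → G} (hf : EvPoly f) : EvPoly (fun n => f (n + 1)) := by
  obtain ⟨r, a, N, ha⟩ := hf
  refine ⟨r, fun i => a i + (if i + 1 < r then a (i + 1) else 0), N, fun n hn => ?_⟩
  dsimp only
  rw [ha (n + 1) (hn.trans n.le_succ)]
  simp only [smul_add, Finset.sum_add_distrib]
  cases r with
  | zero => simp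
  | succ s =>
    rw [Finset.sum_range_succ', Finset.sum_range_succ' (fun i => (n.choose i : ℤ) • a i),
      Finset.sum_range_succ (fun i => (n.choose i : ℤ) • if i + 1 < s + 1 then a (i + 1) else 0)]
    have h : ∀ i ∈ Finset.range s, ((n + 1).choose (i + 1) : ℤ) • a (i + 1) =
        (n.choose (i + 1) : ℤ) • a (i + 1) +
          (n.choose i : ℤ) • (if i + 1 < s + 1 then a (i + 1) else 0) := by
      intro i hi
      rw [if_pos (by have := Finset.mem_range.1 hi; omega), Nat.choose_succ_succ, Nat.cast_add, add_smul,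
        add_comm]
    rw [Finset.sum_congr rfl h, Finset.sum_add_distrib, Nat.choose_zero_right, Nat.choose_zero_right,
      if_neg (lt_irrefl _), smul_zero]
    abel

theorem EvPoly.of_diff {f : ℕ → G} (hf : EvPoly (fun n => f (n + 1) - f n)) : EvPoly f := by
  obtain ⟨r, a, N, ha⟩ := hf
  refine ⟨r + 1, fun i => match i with
    | 0 => f N - ∑ j ∈ Finset.range r, (N.choose (j + 1) : ℤ) • a j
    | j + 1 => a j, N, fun n hn => ?_⟩
  rw [Finset.sum_range_succ']
  simp only [Nat.choose_zero_right, Nat.cast_one, one_smul]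
  induction n, hn using Nat.le_induction with
  | base => abel
  | succ n hn ih =>
    have h : f (n + 1) - f n = ∑ i ∈ Finset.range r, (n.choose i : ℤ) • a i := ha n hn
    have h2 : f (n + 1) = f n + ∑ i ∈ Finset.range r, (n.choose i : ℤ) • a i := by rw [← h]; abel
    simp only [Nat.choose_succ_succ, Nat.succ_eq_add_one, Nat.cast_add, add_smul, Finset.sum_add_distrib]
    rw [h2, ih]
    abel

end evpoly

/-! ### Classes in `K₀` -/

variable (A : Type u) [CommRing A]

/-- The class of a module. -/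
noncomputable abbrev cls (X : Type u) [AddCommGroup X] [Module A X] :
    KZero.K0sub (fun Y : ModuleCat.{u} A => Module.Finite A Y) :=
  KZero.clSub (fun Y : ModuleCat.{u} A => Module.Finite A Y) (ModuleCat.of A X)

variable {A}

theorem cls_exact {X Y Z : Type u} [AddCommGroup X] [Module A X] [AddCommGroup Y] [Module A Y]
    [AddCommGroup Z] [Module A Z] [hX : Module.Finite A X] [hY : Module.Finite A Y]
    [hZ : Module.Finite A Z] (f : X →ₗ[A] Y) (g : Y →ₗ[A] Z) (hf : Function.Injective f)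
    (hfg : Function.Exact f g) (hg : Function.Surjective g) : cls A Y = cls A X + cls A Z := by
  let S : ShortComplex (ModuleCat.{u} A) :=
    ShortComplex.mk (ModuleCat.ofHom f) (ModuleCat.ofHom g) (by
      ext x; exact hfg.apply_apply_eq_zero x)
  have hS : S.ShortExact :=
    { exact := (ShortComplex.ShortExact.moduleCat_exact_iff_function_exact S).2 hfg
      mono_f := (ModuleCat.mono_iff_injective _).2 hf
      epi_g := (ModuleCat.epi_iff_surjective _).2 hg }
  let P : ObjectProperty (ModuleCat.{u} A) := fun W => Module.Finite A W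
  have h : FreeAbelianGroup.of (⟨S.X₂, hY⟩ : Subtype P) - FreeAbelianGroup.of ⟨S.X₁, hX⟩ -
      FreeAbelianGroup.of ⟨S.X₃, hZ⟩ ∈ KZero.relSub P :=
    AddSubgroup.subset_closure ⟨S, hX, hY, hZ, hS, rfl⟩
  have h0 := (QuotientAddGroup.eq_zero_iff _).2 h
  simp only [cls, KZero.clSub, dif_pos (show Module.Finite A (ModuleCat.of A X) from hX),
    dif_pos (show Module.Finite A (ModuleCat.of A Y) from hY),
    dif_pos (show Module.Finite A (ModuleCat.of A Z) from hZ)]
  rw [sub_sub] at h0
  exact sub_eq_zero.1 h0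

theorem cls_subsingleton (X : Type u) [AddCommGroup X] [Module A X] [Subsingleton X] : cls A X = 0 := by
  haveI : Module.Finite A X := ⟨by rw [Subsingleton.elim (⊤ : Submodule A X) ⊥]; exact Submodule.fg_bot⟩
  have h := cls_exact (A := A) (X := X) (Y := X) (Z := X) 0 0 (Function.injective_of_subsingleton _)
    (fun x => iff_of_true (Subsingleton.elim _ _) ⟨x, Subsingleton.elim _ _⟩)
    (fun x => ⟨x, Subsingleton.elim _ _⟩)
  exact left_eq_add.1 h

theorem cls_congr {X Y : Type u} [AddCommGroup X] [Module A X] [AddCommGroup Y] [Module A Y]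
    [Module.Finite A X] [Module.Finite A Y] (e : X ≃ₗ[A] Y) : cls A X = cls A Y := by
  have h := cls_exact (A := A) (X := PUnit.{u + 1}) (Y := X) (Z := Y) 0 e.toLinearMap
    (Function.injective_of_subsingleton _)
    (fun x => ⟨fun h => ⟨PUnit.unit, (e.map_eq_zero_iff.1 h).symm⟩, by rintro ⟨_, rfl⟩; simp⟩) e.surjective
  rw [h, cls_subsingleton, zero_add]

/-! ### Subquotients -/

section sub

variable {M : Type u} [AddCommGroup M] [Module A M]

/-- The class of `P / Q`. -/
noncomputable def qcl (P Q : Submodule A M) :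
    KZero.K0sub (fun Y : ModuleCat.{u} A => Module.Finite A Y) :=
  cls A (↥P ⧸ Q.submoduleOf P)

theorem qcl_eq_zero {P Q : Submodule A M} (h : P ≤ Q) : qcl P Q = 0 := by
  haveI : Subsingleton (↥P ⧸ Q.submoduleOf P) := Submodule.Quotient.subsingleton_iff.2
    (Submodule.submoduleOf_eq_top.2 h)
  exact cls_subsingleton _

theorem qcl_add {a b c : Submodule A M} (hab : a ≤ b) (hbc : b ≤ c) (hb : b.FG) (hc : c.FG) :
    qcl c a = qcl b a + qcl c b := by
  haveI := Module.Finite.iff_fg.2 hb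
  haveI := Module.Finite.iff_fg.2 hc
  let f : (↥b ⧸ a.submoduleOf b) →ₗ[A] (↥c ⧸ a.submoduleOf c) :=
    Submodule.mapQ _ _ (Submodule.inclusion hbc) (fun _ h => h)
  let g : (↥c ⧸ a.submoduleOf c) →ₗ[A] (↥c ⧸ b.submoduleOf c) :=
    Submodule.mapQ _ _ LinearMap.id (fun x h => hab h)
  refine cls_exact f g ?_ ?_ ?_
  · rw [← LinearMap.ker_eq_bot, LinearMap.ker_eq_bot']
    intro x hx
    obtain ⟨x, rfl⟩ := Submodule.Quotient.mk_surjective _ x
    rw [Submodule.Quotient.mk_eq_zero]
    exact (Submodule.Quotient.mk_eq_zero (a.submoduleOf c) (x := Submodule.inclusion hbc x)).1 hx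
  · intro z
    obtain ⟨z, rfl⟩ := Submodule.Quotient.mk_surjective _ z
    constructor
    · intro hz
      have hz' := (Submodule.Quotient.mk_eq_zero (b.submoduleOf c) (x := z)).1 hz
      exact ⟨Submodule.Quotient.mk ⟨(z : M), hz'⟩, rfl⟩
    · rintro ⟨w, hw⟩
      obtain ⟨w, rfl⟩ := Submodule.Quotient.mk_surjective _ w
      rw [← hw]
      exact (Submodule.Quotient.mk_eq_zero _).2 w.2
  · intro z
    obtain ⟨z, rfl⟩ := Submodule.Quotient.mk_surjective _ z
    exact ⟨Submodule.Quotient.mk z, rfl⟩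

/-- A surjection onto a subquotient computes its class. -/
theorem qcl_eq_of_map {P K Q Q' : Submodule A M} (hP : P.FG) (hQ : Q.FG) (l : M →ₗ[A] M)
    (hl : ∀ m ∈ P, l m ∈ Q) (hK : ∀ m ∈ P, m ∈ K ↔ l m ∈ Q') (hs : Q ≤ Q' ⊔ P.map l) :
    qcl P K = qcl Q Q' := by
  haveI := Module.Finite.iff_fg.2 hP
  haveI := Module.Finite.iff_fg.2 hQ
  let φ : ↥P →ₗ[A] ↥Q ⧸ Q'.submoduleOf Q :=
    (Q'.submoduleOf Q).mkQ ∘ₗ (l.restrict hl)
  have hker : LinearMap.ker φ = K.submoduleOf P := by
    ext ⟨m, hm⟩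
    exact ((Submodule.Quotient.mk_eq_zero _).trans (hK m hm).symm)
  have hsurj : Function.Surjective φ := by
    intro z
    obtain ⟨⟨z, hz⟩, rfl⟩ := Submodule.Quotient.mk_surjective _ z
    obtain ⟨a, ha, b, ⟨m, hm, rfl⟩, hab⟩ := Submodule.mem_sup.1 (hs hz)
    refine ⟨⟨m, hm⟩, (Submodule.Quotient.eq _).2 ?_⟩
    show l m - z ∈ Q'
    rw [← hab, show l m - (a + l m) = -a by abel]
    exact Q'.neg_mem ha
  exact cls_congr ((Submodule.quotEquivOfEq _ _ hker.symm).trans
    (φ.quotKerEquivOfSurjective hsurj))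

end sub

/-! ### Graded modules -/

section graded

variable {S : Type u} [CommRing S] [Algebra A S] (𝒜 : ℕ → Submodule A S) [GradedAlgebra 𝒜]
  {M : Type u} [AddCommGroup M] [Module A M] [Module S M] [IsScalarTower A S M]
  (ℳ : ℕ → Submodule A M) [DirectSum.Decomposition ℳ] [SetLike.GradedSMul 𝒜 ℳ]

/-- The homogeneous component. -/
noncomputable def comp (n : ℕ) : M →ₗ[A] M :=
  (ℳ n).subtype ∘ₗ DirectSum.component A ℕ (fun i => ↥(ℳ i)) n ∘ₗ
    (DirectSum.decomposeLinearEquiv ℳ).toLinearMap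

theorem comp_apply (n : ℕ) (m : M) : comp ℳ n m = (DirectSum.decompose ℳ m n : M) := rfl

theorem comp_mem (n : ℕ) (m : M) : comp ℳ n m ∈ ℳ n := (DirectSum.decompose ℳ m n).2

theorem comp_of_mem {n : ℕ} {m : M} (h : m ∈ ℳ n) : comp ℳ n m = m :=
  DirectSum.decompose_of_mem_same ℳ h

theorem comp_of_mem_ne {n k : ℕ} {m : M} (h : m ∈ ℳ n) (hk : n ≠ k) : comp ℳ k m = 0 :=
  DirectSum.decompose_of_mem_ne ℳ h hk

theorem comp_smul {i : ℕ} {s : S} (hs : s ∈ 𝒜 i) (j : ℕ) (m : M) :
    comp ℳ (i + j) (s • m) = s • comp ℳ j m := by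
  induction m using DirectSum.Decomposition.inductionOn ℳ with
  | zero => simp
  | @homogeneous k m =>
    have h : s • (m : M) ∈ ℳ (i + k) := SetLike.GradedSMul.smul_mem hs m.2
    by_cases hk : k = j
    · subst hk; rw [comp_of_mem ℳ h, comp_of_mem ℳ m.2]
    · rw [comp_of_mem_ne ℳ h (by omega), comp_of_mem_ne ℳ m.2 hk, smul_zero]
  | add a b ha hb => rw [smul_add, map_add, map_add, ha, hb, smul_add]

theorem comp_smul_of_mem {n : ℕ} {p : M} (hp : p ∈ ℳ n) (s : S) :
    comp ℳ n (s • p) = (DirectSum.decompose 𝒜 s 0 : S) • p := by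
  induction s using DirectSum.Decomposition.inductionOn 𝒜 with
  | zero => simp
  | @homogeneous k s =>
    have h : (s : S) • p ∈ ℳ (k + n) := SetLike.GradedSMul.smul_mem s.2 hp
    by_cases hk : k = 0
    · subst hk
      rw [zero_add] at h
      rw [comp_of_mem ℳ h, DirectSum.decompose_of_mem_same 𝒜 s.2]
    · rw [comp_of_mem_ne ℳ h (by omega), DirectSum.decompose_of_mem_ne 𝒜 s.2 hk, zero_smul]
  | add a b ha hb => rw [add_smul, map_add, ha, hb, DirectSum.decompose_add, DirectSum.add_apply,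
      Submodule.coe_add, add_smul]

/-- The degree `n` part of a submodule. -/
abbrev pc (N : Submodule S M) (n : ℕ) : Submodule A M := N.restrictScalars A ⊓ ℳ n

variable [IsNoetherian S M]

include 𝒜 in
/-- Submodules of a homogeneous component are finitely generated. -/
theorem fg_of_le (h0 : ∀ s ∈ 𝒜 0, s ∈ Set.range (algebraMap A S)) {n : ℕ} {P : Submodule A M}
    (hP : P ≤ ℳ n) : P.FG := by
  classical
  obtain ⟨t, htP, ht'⟩ := (Submodule.fg_span_iff_fg_span_finset_subset (R := S) (P : Set M)).1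
    (IsNoetherian.noetherian _)
  have ht := ht'.symm
  refine ⟨t, le_antisymm (Submodule.span_le.2 htP) fun p hp => ?_⟩
  have hp' : p ∈ Submodule.span S (t : Set M) := ht ▸ Submodule.subset_span hp
  rw [← comp_of_mem ℳ (hP hp)]
  suffices h : ∀ s : S, comp ℳ n (s • p) ∈ Submodule.span A (t : Set M) by simpa using h 1
  clear hp
  induction hp' using Submodule.span_induction with
  | mem x hx =>
    intro s
    obtain ⟨a, ha⟩ := h0 _ (DirectSum.decompose 𝒜 s 0).2
    rw [comp_smul_of_mem 𝒜 ℳ (hP (htP hx)) s, ← ha, algebraMap_smul]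
    exact Submodule.smul_mem _ _ (Submodule.subset_span hx)
  | zero => intro s; rw [smul_zero, map_zero]; exact Submodule.zero_mem _
  | add x y _ _ hx hy => intro s; rw [smul_add, map_add]; exact add_mem (hx s) (hy s)
  | smul r x _ hx => intro s; rw [smul_smul]; exact hx (s * r)

/-- Closed under taking components. -/
def IsHom (N : Submodule S M) : Prop := ∀ m ∈ N, ∀ n, comp ℳ n m ∈ N

variable (h0 : ∀ s ∈ 𝒜 0, s ∈ Set.range (algebraMap A S)) (T : Finset S)
  (hT1 : ∀ y ∈ T, y ∈ 𝒜 1)
  (hT : ∀ (i : ℕ), 0 < i → ∀ s ∈ 𝒜 i, s ∈ Ideal.span (T : Set S))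

include h0 hT1 hT in
theorem evPoly_qcl (U : Finset S) : ∀ N N' : Submodule S M, IsHom ℳ N → IsHom ℳ N' → N' ≤ N →
    U ⊆ T → (∀ y ∈ T, y ∉ U → ∀ m ∈ N, y • m ∈ N') →
    EvPoly fun n => qcl (pc ℳ N n) (pc ℳ N' n) := by
  classical
  induction U using Finset.induction with
  | empty =>
    intro N N' hN hN' hle _ hkill
    have hS : ∀ s ∈ Ideal.span (T : Set S), ∀ m ∈ N, s • m ∈ N' := by
      intro s hs
      induction hs using Submodule.span_induction with
      | mem x hx => exact hkill x hx (Finset.notMem_empty x)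
      | zero => intro m _; rw [zero_smul]; exact N'.zero_mem
      | add a b _ _ ha hb => intro m hm; rw [add_smul]; exact add_mem (ha m hm) (hb m hm)
      | smul r a _ ha => intro m hm; rw [smul_eq_mul, mul_smul]; exact N'.smul_mem r (ha m hm)
    -- `N` is generated in bounded degrees
    let c : ℕ →o Submodule S M := ⟨fun D => Submodule.span S {m | m ∈ N ∧ ∃ d ≤ D, m ∈ ℳ d},
      fun D D' h => Submodule.span_mono fun m ⟨hm, d, hd, hmd⟩ => ⟨hm, d, hd.trans h, hmd⟩⟩
    obtain ⟨D, hD⟩ := monotone_stabilizes_iff_noetherian.2 inferInstance c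
    have hgen : ∀ n, pc ℳ N n ≤ (c D).restrictScalars A := by
      intro n m hm
      have h1 : m ∈ c (max D n) := Submodule.subset_span ⟨hm.1, n, le_max_right _ _, hm.2⟩
      rw [← hD _ (le_max_left _ _)] at h1
      exact h1
    refine EvPoly.zero.congr (M := D + 1) fun n hn => qcl_eq_zero fun m hm => ⟨?_, hm.2⟩
    have h1 : m ∈ c D := hgen n hm
    show m ∈ N'
    rw [← comp_of_mem ℳ hm.2]
    clear hm
    suffices h : ∀ s : S, comp ℳ n (s • m) ∈ N' by simpa using h 1
    change m ∈ Submodule.span S _ at h1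
    induction h1 using Submodule.span_induction with
    | mem x hx =>
      obtain ⟨hxN, d, hd, hxd⟩ := hx
      intro s
      induction s using DirectSum.Decomposition.inductionOn 𝒜 with
      | zero => rw [zero_smul, map_zero]; exact N'.zero_mem
      | @homogeneous k s =>
        have h : (s : S) • x ∈ ℳ (k + d) := SetLike.GradedSMul.smul_mem s.2 hxd
        by_cases hk : k + d = n
        · subst hk
          rw [comp_of_mem ℳ h]
          exact hS _ (hT k (by omega) _ s.2) x hxN
        · rw [comp_of_mem_ne ℳ h hk]; exact N'.zero_mem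
      | add a b ha hb => rw [add_smul, map_add]; exact add_mem ha hb
    | zero => intro s; rw [smul_zero, map_zero]; exact N'.zero_mem
    | add a b _ _ ha hb => intro s; rw [smul_add, map_add]; exact add_mem (ha s) (hb s)
    | smul r a _ ha => intro s; rw [smul_smul]; exact ha _
  | @insert x U hxU ih =>
    intro N N' hN hN' hle hsub hkill
    obtain ⟨hxT, hUT⟩ := Finset.insert_subset_iff.1 hsub
    have hx1 := hT1 x hxT
    let φ : M →ₗ[S] M := LinearMap.lsmul S M x
    let K : Submodule S M := N ⊓ N'.comap φ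
    let C : Submodule S M := N' ⊔ N.map φ
    have hK : IsHom ℳ K := fun m hm n => ⟨hN m hm.1 n, by
      have := hN' _ hm.2 (1 + n)
      rw [show φ m = x • m from rfl, comp_smul 𝒜 ℳ hx1] at this
      exact this⟩
    have hC : IsHom ℳ C := by
      intro m hm n
      obtain ⟨a, ha, b, ⟨z, hz, rfl⟩, rfl⟩ := Submodule.mem_sup.1 hm
      rw [map_add]
      refine add_mem (Submodule.mem_sup_left (hN' a ha n)) ?_
      change comp ℳ n (x • z) ∈ C
      cases n with
      | zero =>
        suffices h : comp ℳ 0 (x • z) = 0 by rw [h]; exact C.zero_mem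
        clear hz hm
        induction z using DirectSum.Decomposition.inductionOn ℳ with
        | zero => rw [smul_zero, map_zero]
        | @homogeneous k z =>
          have h : x • (z : M) ∈ ℳ (1 + k) := SetLike.GradedSMul.smul_mem hx1 z.2
          exact comp_of_mem_ne ℳ h (by omega)
        | add a b ha hb => rw [smul_add, map_add, ha, hb, add_zero]
      | succ j =>
        rw [add_comm j 1, comp_smul 𝒜 ℳ hx1]
        exact Submodule.mem_sup_right ⟨_, hN z hz j, rfl⟩
    have hK' : N' ≤ K := fun m hm => ⟨hle hm, N'.smul_mem x hm⟩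
    have hC' : C ≤ N := sup_le hle (Submodule.map_le_iff_le_comap.2 fun m hm => N.smul_mem x hm)
    have h1 := ih K N' hK hN' hK' hUT fun y hy hyU m hm => by
      by_cases hyx : y = x
      · subst hyx; exact hm.2
      · exact hkill y hy (by simp [hyx, hyU]) m hm.1
    have h2 := ih N C hN hC hC' hUT fun y hy hyU m hm => by
      by_cases hyx : y = x
      · subst hyx; exact Submodule.mem_sup_right ⟨m, hm, rfl⟩
      · exact Submodule.mem_sup_left (hkill y hy (by simp [hyx, hyU]) m hm)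
    refine EvPoly.of_diff ((h2.shift.sub h1).congr (M := 0) fun n _ => ?_)
    have fg : ∀ {L : Submodule S M} (k : ℕ), (pc ℳ L k).FG := fun k => fg_of_le 𝒜 ℳ h0 inf_le_right
    have e1 := qcl_add (a := pc ℳ N' n) (b := pc ℳ K n) (c := pc ℳ N n)
      (inf_le_inf_right _ hK') (inf_le_inf_right _ (fun m hm => hm.1)) (fg n) (fg n)
    have e2 := qcl_add (a := pc ℳ N' (n + 1)) (b := pc ℳ C (n + 1)) (c := pc ℳ N (n + 1))
      (inf_le_inf_right _ (fun m hm => Submodule.mem_sup_left hm)) (inf_le_inf_right _ hC') (fg _) (fg _)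
    have e3 : qcl (pc ℳ N n) (pc ℳ K n) = qcl (pc ℳ C (n + 1)) (pc ℳ N' (n + 1)) := by
      refine qcl_eq_of_map (fg n) (fg _) (φ.restrictScalars A) (fun m hm => ?_) (fun m hm => ?_) ?_
      · exact ⟨Submodule.mem_sup_right ⟨m, hm.1, rfl⟩,
          (add_comm 1 n) ▸ SetLike.GradedSMul.smul_mem hx1 hm.2⟩
      · exact ⟨fun h => ⟨h.1.2, (add_comm 1 n) ▸ SetLike.GradedSMul.smul_mem hx1 hm.2⟩,
          fun h => ⟨⟨hm.1, h.1⟩, hm.2⟩⟩
      · rintro m ⟨hm, hmn⟩
        obtain ⟨a, ha, b, ⟨z, hz, rfl⟩, rfl⟩ := Submodule.mem_sup.1 hm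
        rw [← comp_of_mem ℳ hmn, map_add, show φ z = x • z from rfl, add_comm n 1, comp_smul 𝒜 ℳ hx1]
        exact Submodule.add_mem_sup ⟨hN' a ha _, comp_mem ℳ _ _⟩
          ⟨_, ⟨hN z hz n, comp_mem ℳ n z⟩, rfl⟩
    show qcl (pc ℳ N (n + 1)) (pc ℳ N' (n + 1)) - qcl (pc ℳ N n) (pc ℳ N' n) = _
    rw [e1, e2, e3]
    abel

include h0 hT1 hT in
theorem evPoly_cls : EvPoly fun n => cls A ↥(ℳ n) := by
  refine (evPoly_qcl 𝒜 ℳ h0 T hT1 hT T ⊤ ⊥ (fun _ _ _ => trivial)
    (fun m hm n => by rw [Submodule.mem_bot] at hm; rw [hm, map_zero]; exact Submodule.zero_mem _)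
    bot_le (Finset.Subset.refl T) (fun y hy hn => absurd hy hn)).congr (M := 0) fun n _ => ?_
  haveI := Module.Finite.iff_fg.2 (fg_of_le 𝒜 ℳ h0 (le_refl (ℳ n)))
  haveI := Module.Finite.iff_fg.2 (fg_of_le 𝒜 ℳ h0 (inf_le_right : pc ℳ (⊤ : Submodule S M) n ≤ ℳ n))
  refine (cls_congr ?_).symm
  exact (Submodule.quotEquivOfEqBot _ (by
    ext ⟨m, hm⟩
    rw [Submodule.mem_bot, Submodule.submoduleOf, Submodule.mem_comap]
    rw [Submodule.subtype_apply]
    exact ⟨fun h => Subtype.ext ((Submodule.mem_bot S).1 h.1), fun h => by rw [h]; exact Submodule.zero_mem _⟩)).trans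
    (LinearEquiv.ofEq _ _ (by simp [pc]))

end graded

end K0HilbLib
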